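import Groth.Agent.StrictCurveLib.Main
import Groth.Agent.SurfNumLib.CastSev
import Groth.Agent.GenusZeroLib.Degrees
import Groth.Agent.PushLinLib.HH
import Groth.Agent.AmpleThLib.FiniteSet
import Mathlib.RingTheory.Ideal.KrullsHeightTheorem
import Groth.Agent.AmpleFinGenLib.Divisor
import Groth.Agent.AmpleFinGenLib.Regular
import Groth.Agent.CurvLib.Line
import Groth.Agent.ModifLib.Basic
import Groth.Agent.PtBlowLib.Stalk
import Groth.Agent.EquidimLib.DimBetween
import Groth.Agent.SerreVanLib.CurveAmple

/-!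
# Curves contracted by a birational morphism form a negative definite configuration
-/

set_option autoImplicit false
set_option linter.style.haveILetI false
set_option linter.unusedSectionVars false
set_option maxHeartbeats 1600000
set_option backward.isDefEq.respectTransparency false
set_option backward.isDefEq.respectTransparency.types false

universe u

open CategoryTheory CategoryTheory.Limits AlgebraicGeometry TopologicalSpace
open KFlatLib (pb)

noncomputable section

namespace NegLib

/-- The quadratic form of a matrix with a positive vector sent to negative values. -/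
theorem quad_neg {r : ℕ} (G : Fin r → Fin r → ℤ) (hs : ∀ i j, G i j = G j i) (ho : ∀ i j, i ≠ j → 0 ≤ G i j)
    (e : Fin r → ℕ) (he : ∀ i, ∑ j, G i j * (e j : ℤ) < 0) (x : Fin r → ℤ) (hx : x ≠ 0) :
    ∑ i, ∑ j, x i * x j * G i j < 0 := by
  have hpos : ∀ i, 0 < e i := fun i => by
    rcases Nat.eq_zero_or_pos (e i) with h | h
    · refine absurd (he i) (not_lt.2 (Finset.sum_nonneg fun j _ => ?_))
      by_cases hij : i = j
      · subst hij
        rw [h, Nat.cast_zero, mul_zero]
      · exact mul_nonneg (ho i j hij) (Nat.cast_nonneg _)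
    · exact h
  let y : Fin r → ℚ := fun i => (x i : ℚ) / (e i : ℚ)
  have hy : ∀ i, (x i : ℚ) = (e i : ℚ) * y i := fun i => by
    simp only [y]
    rw [mul_div_cancel₀]
    exact_mod_cast (hpos i).ne'
  have key : ((∑ i, ∑ j, x i * x j * G i j : ℤ) : ℚ) ≤ ∑ i, (e i : ℚ) * y i ^ 2 * ∑ j, (G i j : ℚ) * (e j : ℚ) := by
    have h1 : ((∑ i, ∑ j, x i * x j * G i j : ℤ) : ℚ) ≤
        ∑ i, ∑ j, (G i j : ℚ) * (e i : ℚ) * (e j : ℚ) * ((y i ^ 2 + y j ^ 2) / 2) := by
      push_cast
      refine Finset.sum_le_sum fun i _ => Finset.sum_le_sum fun j _ => ?_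
      by_cases hij : i = j
      · subst hij
        rw [hy i]
        exact le_of_eq (by ring)
      · rw [hy i, hy j]
        have hG : (0 : ℚ) ≤ (G i j : ℚ) * (e i : ℚ) * (e j : ℚ) := by
          have := ho i j hij
          positivity
        nlinarith [mul_nonneg hG (sq_nonneg (y i - y j))]
    refine h1.trans (le_of_eq ?_)
    have h2 : ∑ i, ∑ j, (G i j : ℚ) * (e i : ℚ) * (e j : ℚ) * (y j ^ 2 / 2) =
        ∑ i, ∑ j, (G i j : ℚ) * (e i : ℚ) * (e j : ℚ) * (y i ^ 2 / 2) := by
      rw [Finset.sum_comm]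
      exact Finset.sum_congr rfl fun i _ => Finset.sum_congr rfl fun j _ => by rw [hs j i]; ring
    simp only [add_div, mul_add, Finset.sum_add_distrib]
    rw [h2, ← Finset.sum_add_distrib]
    refine Finset.sum_congr rfl fun i _ => ?_
    rw [← Finset.sum_add_distrib, Finset.mul_sum]
    exact Finset.sum_congr rfl fun j _ => by ring
  have hneg : ∑ i, (e i : ℚ) * y i ^ 2 * ∑ j, (G i j : ℚ) * (e j : ℚ) < 0 := by
    obtain ⟨i₀, hi₀⟩ := Function.ne_iff.1 hx
    have hle : ∀ i, (∑ j, (G i j : ℚ) * (e j : ℚ)) < 0 := fun i => by exact_mod_cast he i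
    refine Finset.sum_neg' (fun i _ => mul_nonpos_of_nonneg_of_nonpos (by positivity) (hle i).le)
      ⟨i₀, Finset.mem_univ _, mul_neg_of_pos_of_neg ?_ (hle i₀)⟩
    have h0 : y i₀ ≠ 0 := fun h => hi₀ (by
      have h1 := hy i₀
      rw [h, mul_zero] at h1
      exact_mod_cast h1)
    have := hpos i₀
    positivity
  exact_mod_cast key.trans_lt hneg

/-- Effective Cartier divisors pull back when the generic point is not mapped into them. -/
theorem isEffCartier_comap {X Z : Scheme.{u}} [IsIntegral Z] {K : X.IdealSheafData}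
    (hK : BlowUp.IsEffCartierIdeal K) (g : Z ⟶ X) (hη : g (genericPoint Z) ∉ K.support) :
    BlowUp.IsEffCartierIdeal (K.comap g) := by
  intro z
  obtain ⟨U, hxU, f, -, hU, hb⟩ := ModPairLib.exists_gen_basicOpen hK (g z)
  obtain ⟨V, hV, hzV, e⟩ := exists_isAffineOpen_mem_and_subset (U := g ⁻¹ᵁ U.1) (x := z) hxU
  have e' : V ≤ g ⁻¹ᵁ U.1 := e
  haveI : Nonempty V := ⟨⟨z, hzV⟩⟩
  refine ⟨⟨V, hV⟩, hzV, (g.appLE U.1 V e').hom f, mem_nonZeroDivisors_of_ne_zero fun h0 => ?_,
    by rw [Groth.Agent.S4666.ideal_comap_eq _ g U ⟨V, hV⟩ e', hU, Ideal.map_span, Set.image_singleton]⟩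
  have hηV : genericPoint Z ∈ V := ((genericPoint_spec Z).mem_open_set_iff V.2).2 ⟨z, trivial, hzV⟩
  have h1 : genericPoint Z ∈ Z.basicOpen ((g.appLE U.1 V e').hom f) := by
    rw [Scheme.basicOpen_appLE]
    refine ⟨hηV, ?_⟩
    show g (genericPoint Z) ∈ X.basicOpen f
    rw [← hb]
    exact ⟨show g (genericPoint Z) ∈ ModPair.interior K from hη, e' hηV⟩
  rw [h0, Scheme.basicOpen_zero] at h1
  exact h1

/-- Invertible modules over a point are trivial. -/
theorem nonempty_unit_of_subsingleton {P : Scheme.{u}} [Subsingleton P] [Nonempty P] {N : P.Modules}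
    (hN : PicF.IsInvertible N) : Nonempty (N ≅ Coh.structureModule P) := by
  obtain ⟨x⟩ := ‹Nonempty P›
  obtain ⟨U, t, hx, ht⟩ := TwistLib.exists_genOn hN x
  have hU : U = ⊤ := top_le_iff.1 fun y _ => Subsingleton.elim x y ▸ hx
  subst hU
  haveI := AmpleLib.isIso_unitHom t ht
  exact ⟨(asIso (QCohLib.unitHom N t)).symm⟩

/-- Splitting off the components along a finite family of curves. -/
theorem exists_decomp {W : Scheme.{u}} [IsIntegral W] [IsLocallyNoetherian W] {r : ℕ}
    (I : Fin r → W.IdealSheafData) (hI : ∀ i, BlowUp.IsEffCartierIdeal (I i)) (hne : ∀ i, I i ≠ ⊤)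
    (P : W.IdealSheafData) (hP : BlowUp.IsEffCartierIdeal P) (s : Finset (Fin r)) :
    ∃ (e : Fin r → ℕ) (R : W.IdealSheafData), BlowUp.IsEffCartierIdeal R ∧ (∀ i ∈ s, ¬ R ≤ I i) ∧
      P = (∏ i ∈ s, I i ^ e i) * R := by
  classical
  induction s using Finset.induction with
  | empty => exact ⟨0, P, hP, fun i hi => absurd hi (Finset.notMem_empty i), by rw [Finset.prod_empty, one_mul]⟩
  | insert a s ha ih =>
    obtain ⟨e, R, hR, hRs, hPe⟩ := ih
    obtain ⟨z, hz⟩ : ∃ z, z ∈ (I a).support := by
      by_contra h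
      push Not at h
      exact hne a ((Scheme.IdealSheafData.support_eq_bot_iff _).1
        (Closeds.ext (Set.eq_empty_of_forall_notMem h)))
    have hex : ∃ n, ¬ R ≤ I a ^ n := by
      by_contra h
      push Not at h
      haveI : IsNoetherianRing (W.presheaf.stalk z) := inferInstance
      obtain ⟨t, ht, htR⟩ := DivDescLib.exists_gen hR z
      have h0 : t ∈ (⊥ : Ideal (W.presheaf.stalk z)) := by
        rw [← Ideal.iInf_pow_eq_bot_of_isDomain (IntMult.stalkIdeal (I a) z) ((SDivLib.mem_support_iff_stalk _ z).1 hz),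
          Ideal.mem_iInf]
        intro n
        rw [← SDivLib.stalkIdeal_pow]
        exact PtBlowLib.stalkIdeal_mono (h n) z (htR.symm ▸ Ideal.mem_span_singleton_self t)
      exact zero_notMem_nonZeroDivisors ((Ideal.mem_bot.1 h0) ▸ ht)
    have h0 : Nat.find hex ≠ 0 := fun h0 => by
      have := Nat.find_spec hex
      rw [h0, pow_zero, Scheme.IdealSheafData.one_eq_top] at this
      exact this le_top
    obtain ⟨n, hn⟩ := Nat.exists_eq_succ_of_ne_zero h0
    have hle : R ≤ I a ^ n := not_not.1 (Nat.find_min hex (by omega))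
    obtain ⟨R', hR'⟩ := PtBlowLib.exists_mul_eq (PtBlowLib.isEffCartier_pow (hI a) n) hle
    have hR'c : BlowUp.IsEffCartierIdeal R' := by
      refine BlowUpLib.isEffCartier_of_mul (I := I a ^ n) (J := R') ?_
      rw [mul_comm, ← hR']
      exact hR
    have hRR' : R ≤ R' := fun U => by
      rw [hR', Scheme.IdealSheafData.ideal_mul, Pi.mul_apply]
      exact Ideal.mul_le_left
    refine ⟨Function.update e a n, R', hR'c, fun i hi => ?_, ?_⟩
    · rcases Finset.mem_insert.1 hi with rfl | hi
      · intro h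
        have hs := Nat.find_spec hex
        rw [hn] at hs
        refine hs fun U => ?_
        rw [hR', Scheme.IdealSheafData.ideal_mul, Pi.mul_apply, Scheme.IdealSheafData.ideal_pow,
          Scheme.IdealSheafData.ideal_pow, Pi.pow_apply, Pi.pow_apply, pow_succ']
        exact Ideal.mul_mono (h U) le_rfl
      · exact fun h => hRs i hi (hRR'.trans h)
    · have hpr : ∏ i ∈ s, I i ^ Function.update e a n i = ∏ i ∈ s, I i ^ e i :=
        Finset.prod_congr rfl fun i hi => by rw [Function.update_of_ne (fun h : i = a => ha (h ▸ hi))]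
      rw [Finset.prod_insert ha, Function.update_self, hpr, hPe, hR']
      ac_rfl

section Degree

variable {κ : Type u} [Field κ] {E : Scheme.{u}} [E.Over (Spec (CommRingCat.of κ))]
  [IsProper (E ↘ Spec (CommRingCat.of κ))] [IsIntegral E] (hE : topologicalKrullDim E = 1)

include hE in
/-- The degree of the ideal of a divisor. -/
theorem deg_idealMod {D : E.IdealSheafData} (hD : BlowUp.IsEffCartierIdeal D) :
    Curv2.deg κ E (ClSub.idealMod D) 1 = -Curv2.euler κ E (ClSub.quotMod D) ∧
      Curv2.deg κ E (ClSub.idealMod D) 1 ≤ 0 ∧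
      ((D.support : Set E).Nonempty → Curv2.deg κ E (ClSub.idealMod D) 1 < 0) := by
  haveI := CurvLib.isNoetherian κ (X := E)
  have hI := IntMultLib.isInvertible_idealMod D hD
  have hadd := CurvLib.euler_add_of_isCoh (k := κ) (S := CurvLib.idealSeq D) (CurvLib.idealSeq_shortExact _)
    (CurvLib.isCoh_of_isInvertible hI) (DevissLib.isCoh_structureModule E) (CurvLib.isCoh_quotMod _)
  change Curv2.euler κ E (Coh.structureModule E) = Curv2.euler κ E (ClSub.idealMod D) +
    Curv2.euler κ E (ClSub.quotMod D) at hadd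
  have hS := CurvLib.idealSeq_shortExact D
  haveI := hS.mono_f
  have hne' : ¬ IsZero (ClSub.idealMod D) := fun hz => by
    obtain ⟨d⟩ := MiscFlat6.nonempty_dualIso hI
    have h1 := DevissLib.support_iso (HilbPolyLib.swapIso (MiscFlat6.dual (ClSub.idealMod D)) (ClSub.idealMod D) ≪≫ d)
    rw [HilbPolyLib.support_tensor (MiscFlat6.dual_isInvertible hI) (ClSub.idealMod D), DevissLib.support_of_isZero hz,
      IntMultLib.support_structureModule'] at h1
    exact Set.empty_ne_univ h1
  have hne : (CurvLib.idealSeq D).f ≠ 0 := fun h => by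
    have hz : IsZero (ClSub.idealMod D) := (IsZero.iff_id_eq_zero _).mpr
      ((cancel_mono (CurvLib.idealSeq D).f).mp (by rw [h, comp_zero, comp_zero]))
    refine hne' ?_
    exact hz
  have hle := CurvLib.euler_le (k := κ) hI CurvLib.isInvertible_structureModule hE hne
  refine ⟨?_, ?_, fun hn => ?_⟩
  · rw [Curv2.deg]; omega
  · rw [Curv2.deg]; omega
  · by_contra hlt
    rw [Curv2.deg] at hlt
    haveI : IsIso (CurvLib.idealSeq D).f :=
      CurvLib.isIso_of_euler_le (k := κ) hI CurvLib.isInvertible_structureModule hE hne (by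
        change Curv2.euler κ E (Coh.structureModule E) ≤ Curv2.euler κ E (ClSub.idealMod D)
        omega)
    haveI := hS.epi_g
    have hz : IsZero (ClSub.quotMod D) := (IsZero.iff_id_eq_zero _).mpr
      ((cancel_epi (CurvLib.idealSeq D).g).mp ((cancel_epi (CurvLib.idealSeq D).f).mp (by
        rw [← Category.assoc, (CurvLib.idealSeq D).zero, zero_comp, comp_zero, comp_zero])))
    obtain ⟨z, hz'⟩ := hn
    rw [← AVAmpleLib.support_quotMod D, DevissLib.support_of_isZero hz] at hz'
    exact hz'

end Degree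

/-- Degree on a curve with given structure morphism. -/
def dg {κ : Type u} [Field κ] {E : Scheme.{u}} (s : E ⟶ Spec (CommRingCat.of κ)) (M : E.Modules) : ℤ :=
  @Curv2.deg κ _ E ⟨s⟩ M 1

variable (R : Type u) [CommRing R] [IsDomain R] {W : Scheme.{u}} [IsIntegral W] [IsNoetherian W]
  (π : W ⟶ Spec (CommRingCat.of R)) [IsProper π]
  (U : (Spec (CommRingCat.of R)).Opens) (hU : (U : Set (Spec (CommRingCat.of R))).Nonempty) [IsIso (π ∣_ U)]
  (κ : Type u) [Field κ] (ρ : R →+* κ) (hρ : Function.Surjective ρ)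
  {r : ℕ} (E : Fin r → Scheme.{u}) (e : ∀ i, E i ⟶ W) [∀ i, IsClosedImmersion (e i)] [∀ i, IsIntegral (E i)]
  (hEd : ∀ i, topologicalKrullDim (E i) = 1)
  (hcart : ∀ i, BlowUp.IsEffCartierIdeal (e i).ker)
  (s : ∀ i, E i ⟶ Spec (CommRingCat.of κ)) (hs : ∀ i, e i ≫ π = s i ≫ Spec.map (CommRingCat.ofHom ρ))
  (hdist : ∀ i j, i ≠ j → Set.range (e i).base ≠ Set.range (e j).base)
  (hout : ∀ i c, π (e i c) ∉ U)

include hρ hs in
theorem isProper_s (i : Fin r) : IsProper (s i) := by
  haveI : IsClosedImmersion (Spec.map (CommRingCat.ofHom ρ)) := IsClosedImmersion.spec_of_surjective _ hρ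
  haveI : IsProper (s i ≫ Spec.map (CommRingCat.ofHom ρ)) := (hs i) ▸ inferInstance
  exact IsProper.of_comp (s i) (Spec.map (CommRingCat.ofHom ρ))

include hEd hdist in
/-- The generic point of one curve lies on no other. -/
theorem generic_notMem {i j : Fin r} (hij : i ≠ j) : e i (genericPoint (E i)) ∉ Set.range (e j).base := by
  intro h
  have hr : ∀ l, Set.range (e l).base = closure {e l (genericPoint (E l))} := fun l => by
    rw [← Set.image_univ, ← (genericPoint_spec (E l)).def, ← (e l).isClosedEmbedding.closure_image_eq,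
      Set.image_singleton]
  have hsub : Set.range (e i).base ⊆ Set.range (e j).base := by
    rw [hr i]
    exact closure_minimal (Set.singleton_subset_iff.2 h) (e j).isClosedEmbedding.isClosed_range
  refine hdist i j hij (hsub.antisymm ?_)
  rw [hr j]
  refine closure_minimal (Set.singleton_subset_iff.2 ?_) (e i).isClosedEmbedding.isClosed_range
  by_contra hn
  have hd : ∀ l, topologicalKrullDim (Set.range (e l).base) = 1 := fun l => by
    rw [← hEd l]
    exact (e l).isEmbedding.toHomeomorph.isHomeomorph.topologicalKrullDim_eq.symm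
  have h1 := HilbPolyLib.dim_lt_of_notMem (e i).isClosedEmbedding.isClosed_range (hsub.trans (hr j).le) hn
    (Y := Set.range (e j).base) (hr j).ge (d := 1) (by rw [hd j]; decide)
  rw [hd i] at h1
  exact lt_irrefl _ h1


include hEd in
/-- A point of height one specializing to a point of a curve, off all the curves. -/
theorem exists_point_off (η : W) (hη : IsGenericPoint η (Set.univ : Set W))
    (hne : ∀ j, e j (genericPoint (E j)) ≠ η) (i : Fin r) (c : E i) (hc : IsClosed ({c} : Set (E i))) :
    ∃ (z : W) (c : E i), z ⤳ e i c ∧ z ≠ η ∧ ∀ j, z ∉ Set.range (e j).base := by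
  classical
  set x := e i c
  have hgen : ∀ j, ∀ d d' : E j, d' ⤳ d → d' ≠ d → d' = genericPoint (E j) := fun j d d' h hd' => by
    by_contra hg
    let a : IrreducibleCloseds (E j) := ⟨closure {d}, isIrreducible_singleton.closure, isClosed_closure⟩
    let b : IrreducibleCloseds (E j) := ⟨closure {d'}, isIrreducible_singleton.closure, isClosed_closure⟩
    let g : IrreducibleCloseds (E j) := ⟨closure {genericPoint (E j)}, isIrreducible_singleton.closure, isClosed_closure⟩
    have hab : a < b := lt_of_le_of_ne (specializes_iff_closure_subset.1 h) fun he => hd' (by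
      have he' : closure ({d} : Set (E j)) = closure {d'} :=
        congrArg (fun t : IrreducibleCloseds (E j) => (t : Set (E j))) he
      exact (h.antisymm (specializes_iff_mem_closure.2 (he'.symm ▸ subset_closure rfl))).eq)
    have hbg : b < g := lt_of_le_of_ne (specializes_iff_closure_subset.1
      ((genericPoint_spec (E j)).specializes (Set.mem_univ d'))) fun he => hg (by
      have he' : closure ({d'} : Set (E j)) = closure {genericPoint (E j)} :=
        congrArg (fun t : IrreducibleCloseds (E j) => (t : Set (E j))) he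
      exact ((specializes_iff_mem_closure.2 (he'.symm ▸ subset_closure rfl)).antisymm
        ((genericPoint_spec (E j)).specializes (Set.mem_univ d'))).eq)
    rcases Order.krullDim_le_one_iff.mp (le_of_eq (hEd j)) b with hmin | hmax
    · exact hmin.not_lt hab
    · exact hmax.not_lt hbg
  have hcg : c ≠ genericPoint (E i) := fun h => by
    have h1 : (Set.univ : Set (E i)) = {c} := by
      rw [← hc.closure_eq, h, (genericPoint_spec (E i)).def]
    haveI : Subsingleton (E i) := ⟨fun a b => by
      have ha : a ∈ ({c} : Set (E i)) := h1 ▸ Set.mem_univ a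
      have hb : b ∈ ({c} : Set (E i)) := h1 ▸ Set.mem_univ b
      exact (Set.mem_singleton_iff.1 ha).trans (Set.mem_singleton_iff.1 hb).symm⟩
    haveI : Subsingleton (IrreducibleCloseds (E i)) := ⟨fun a b => IrreducibleCloseds.ext
      ((Subsingleton.eq_univ_of_nonempty a.isIrreducible.nonempty).trans
        (Subsingleton.eq_univ_of_nonempty b.isIrreducible.nonempty).symm)⟩
    have h0 : topologicalKrullDim (E i) ≤ 0 := Order.krullDim_nonpos_of_subsingleton
    rw [hEd i] at h0
    exact absurd h0 (by norm_num)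
  have hclosed : ∀ j, e j (genericPoint (E j)) ≠ x := fun j h => by
    have hxc : IsClosed ({x} : Set W) := by
      rw [← Set.image_singleton]
      exact (e i).isClosedEmbedding.isClosedMap _ hc
    have h1 : Set.range (e j).base ⊆ {x} := by
      rw [← Set.image_univ, ← (genericPoint_spec (E j)).def]
      exact (image_closure_subset_closure_image (e j).continuous).trans
        (closure_minimal (by rw [Set.image_singleton]; exact Set.singleton_subset_iff.2 h) hxc)
    haveI : Subsingleton (E j) := ⟨fun a b => (e j).isEmbedding.injective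
      ((Set.mem_singleton_iff.1 (h1 ⟨a, rfl⟩)).trans (Set.mem_singleton_iff.1 (h1 ⟨b, rfl⟩)).symm)⟩
    haveI : Subsingleton (IrreducibleCloseds (E j)) := ⟨fun a b => IrreducibleCloseds.ext
      ((Subsingleton.eq_univ_of_nonempty a.isIrreducible.nonempty).trans
        (Subsingleton.eq_univ_of_nonempty b.isIrreducible.nonempty).symm)⟩
    have h0 : topologicalKrullDim (E j) ≤ 0 := Order.krullDim_nonpos_of_subsingleton
    rw [hEd j] at h0
    exact absurd h0 (by norm_num)
  obtain ⟨m, hm⟩ := EquidimLib.exists_stalkPt (specializes_rfl (x := x))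
  let R' := W.presheaf.stalk x
  have hmmax : ∀ q : PrimeSpectrum R', q ≤ m := fun q =>
    EquidimLib.le_of_stalkPt (hm.symm ▸ EquidimLib.stalkPt_specializes x q)
  let Ps : Set (PrimeSpectrum R') := {p | ∃ j, EquidimLib.stalkPt x p = e j (genericPoint (E j))}
  have hPs : Ps.Finite := ((Set.finite_range fun j => e j (genericPoint (E j))).preimage
    (EquidimLib.stalkPt_injective x).injOn).subset fun p ⟨j, hj⟩ => ⟨j, hj.symm⟩
  obtain ⟨qi, hqi⟩ := EquidimLib.exists_stalkPt
    ((((genericPoint_spec (E i)).specializes (Set.mem_univ c)).map (e i).continuous : e i (genericPoint (E i)) ⤳ x))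
  have hqim : qi < m := lt_of_le_of_ne (hmmax qi) fun h => hcg ((e i).isEmbedding.injective
    (hm.symm.trans ((congrArg _ h.symm).trans hqi)))
  obtain ⟨p0, hp0⟩ := EquidimLib.exists_stalkPt (hη.specializes (Set.mem_univ x))
  have hbot : ∀ q, p0 ≤ q := fun q => EquidimLib.le_of_stalkPt (hp0.symm ▸ hη.specializes (Set.mem_univ _))
  have hp0qi : p0 < qi := lt_of_le_of_ne (hbot qi) fun h => hne i (hqi.symm.trans ((congrArg _ h.symm).trans hp0))
  have hnot : ¬ (m.asIdeal : Set R') ⊆ ⋃ p ∈ (↑(insert p0 hPs.toFinset) : Set (PrimeSpectrum R')), (p.asIdeal : Set R') := by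
    intro h
    obtain ⟨p, hp, hle⟩ := (Ideal.subset_union_prime p0 p0 fun p _ _ _ => p.isPrime).1 h
    rcases Finset.mem_insert.1 hp with rfl | hp
    · exact hqim.not_ge (le_trans (show m ≤ p from hle) hp0qi.le)
    · obtain ⟨j, hj⟩ := hPs.mem_toFinset.1 hp
      have hxj : x ∈ Set.range (e j).base := (e j).isClosedEmbedding.isClosed_range.stableUnderSpecialization
        (hj ▸ EquidimLib.stalkPt_specializes x p) ⟨_, rfl⟩
      obtain ⟨d, hd⟩ := hxj
      have hpm : p = m := le_antisymm (hmmax p) hle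
      have hdg : d = genericPoint (E j) := (e j).isEmbedding.injective
        (hd.trans (hm.symm.trans ((congrArg _ hpm.symm).trans hj)))
      exact hclosed j (hdg ▸ hd)
  obtain ⟨g, hgm, hg⟩ := Set.not_subset.1 hnot
  obtain ⟨q, hq, hqle⟩ := Ideal.exists_minimalPrimes_le (J := m.asIdeal) ((Ideal.span_singleton_le_iff_mem _).2 hgm)
  haveI := hq.1.1
  have hqh : q.height ≤ 1 := Ideal.height_le_one_of_isPrincipal_of_mem_minimalPrimes (Ideal.span {g}) q hq
  let Q : PrimeSpectrum R' := ⟨q, hq.1.1⟩
  have hgQ : g ∈ Q.asIdeal := hq.1.2 (Ideal.mem_span_singleton_self g)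
  refine ⟨EquidimLib.stalkPt x Q, c, EquidimLib.stalkPt_specializes x Q, fun h => ?_, fun j hj => ?_⟩
  · have : Q = p0 := EquidimLib.stalkPt_injective x (h.trans hp0.symm)
    exact hg (Set.mem_biUnion (Finset.mem_insert_self _ _) (this ▸ hgQ))
  · obtain ⟨d, hd⟩ := hj
    have hQm : Q ≠ m := fun h => by
      have h2 : (2 : ℕ∞) ≤ m.asIdeal.height := by
        have e1 := Ideal.height_add_one_le_of_lt_of_isPrime (I := p0.asIdeal) (J := qi.asIdeal) hp0qi
        have e2 := Ideal.height_add_one_le_of_lt_of_isPrime (I := qi.asIdeal) (J := m.asIdeal) hqim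
        calc (2 : ℕ∞) = 0 + 1 + 1 := by norm_num
          _ ≤ p0.asIdeal.height + 1 + 1 := by gcongr; exact zero_le
          _ ≤ qi.asIdeal.height + 1 := by gcongr
          _ ≤ _ := e2
      have h3 := h2.trans ((congrArg (fun P : PrimeSpectrum R' => P.asIdeal.height) h).symm.le.trans hqh)
      exact absurd h3 (by norm_num)
    have hxj : x ∈ Set.range (e j).base := (e j).isClosedEmbedding.isClosed_range.stableUnderSpecialization
      (EquidimLib.stalkPt_specializes x Q) ⟨d, hd⟩
    obtain ⟨d', hd'⟩ := hxj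
    have hsp : d ⤳ d' := (e j).isEmbedding.toIsInducing.specializes_iff.1
      (by rw [hd, hd']; exact EquidimLib.stalkPt_specializes x Q)
    have hdd : d ≠ d' := fun h => hQm (EquidimLib.stalkPt_injective x (by rw [← hd, h, hd', hm]))
    have : EquidimLib.stalkPt x Q = e j (genericPoint (E j)) := by rw [← hd, hgen j d' d hsp hdd]
    exact hg (Set.mem_biUnion (Finset.mem_insert_of_mem (hPs.mem_toFinset.2 ⟨j, this⟩)) hgQ)

include hρ hEd hcart hs hdist in
/-- Symmetry and signs of the intersection numbers. -/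
theorem pair_facts {i j : Fin r} (hij : i ≠ j) :
    dg (s i) (pb (e i) (ClSub.idealMod (e j).ker)) = dg (s j) (pb (e j) (ClSub.idealMod (e i).ker)) ∧
      dg (s i) (pb (e i) (ClSub.idealMod (e j).ker)) ≤ 0 := by
  haveI : IsClosedImmersion (Spec.map (CommRingCat.ofHom ρ)) := IsClosedImmersion.spec_of_surjective _ hρ
  have hcom : ∀ {a b : Fin r}, a ≠ b → BlowUp.IsEffCartierIdeal ((e b).ker.comap (e a)) := fun {a b} hab =>
    isEffCartier_comap (hcart b) (e a) fun h => generic_notMem E e hEd hdist hab (by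
      rw [← SetLike.mem_coe, Scheme.Hom.support_ker, (e b).isClosedEmbedding.isClosed_range.closure_eq] at h
      exact h)
  let P := pullback (e i) (e j)
  let st : P ⟶ Spec (CommRingCat.of κ) := pullback.fst (e i) (e j) ≫ s i
  have hst : st = pullback.snd (e i) (e j) ≫ s j := by
    rw [← cancel_mono (Spec.map (CommRingCat.ofHom ρ)), Category.assoc, Category.assoc, ← hs i, ← hs j,
      pullback.condition_assoc]
  letI oP : P.Over (Spec (CommRingCat.of κ)) := ⟨st⟩
  haveI : Coh.IsQCoh (Coh.structureModule P) := QCohLib.isQCoh_unit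
  letI oi : (E i).Over (Spec (CommRingCat.of κ)) := ⟨s i⟩
  letI oj : (E j).Over (Spec (CommRingCat.of κ)) := ⟨s j⟩
  haveI : IsProper (E i ↘ Spec (CommRingCat.of κ)) := isProper_s R π κ ρ hρ E e s hs i
  haveI : IsProper (E j ↘ Spec (CommRingCat.of κ)) := isProper_s R π κ ρ hρ E e s hs j
  have hi : (pullback.fst (e i) (e j)).ker = (e j).ker.comap (e i) :=
    Scheme.IdealSheafData.ker_fst_of_isClosedImmersion (e j) (e i)
  have hj : (pullback.snd (e i) (e j)).ker = (e i).ker.comap (e j) := by
    rw [← Scheme.IdealSheafData.ker_fst_of_isClosedImmersion (e i) (e j),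
      ← Scheme.Hom.ker_comp_of_isIso (pullbackSymmetry (e i) (e j)).hom, pullbackSymmetry_hom_comp_fst]
  obtain ⟨a⟩ := SymSqLib.nonempty_pb_ideal (f := e i) (K := (e j).ker) (IntMultLib.isInvertible_idealMod _ (hcart j))
    (IntMultLib.isInvertible_idealMod _ (hcom hij))
  obtain ⟨b⟩ := SymSqLib.nonempty_pb_ideal (f := e j) (K := (e i).ker) (IntMultLib.isInvertible_idealMod _ (hcart i))
    (IntMultLib.isInvertible_idealMod _ (hcom hij.symm))
  obtain ⟨di, hle, -⟩ := deg_idealMod (κ := κ) (hEd i) (hcom hij)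
  obtain ⟨dj, -, -⟩ := deg_idealMod (κ := κ) (hEd j) (hcom hij.symm)
  have qi : Curv2.euler κ (E i) (ClSub.quotMod ((e j).ker.comap (e i))) = Curv2.euler κ P (Coh.structureModule P) := by
    rw [← hi]
    exact (CurvLib.euler_congr (k := κ) (SurfNumLib.quotMod_ker_iso (pullback.fst (e i) (e j))).some).trans
      (PushLinLib.euler_push κ (pullback.fst (e i) (e j)) rfl _).2.symm
  have qj : Curv2.euler κ (E j) (ClSub.quotMod ((e i).ker.comap (e j))) = Curv2.euler κ P (Coh.structureModule P) := by
    rw [← hj]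
    exact (CurvLib.euler_congr (k := κ) (SurfNumLib.quotMod_ker_iso (pullback.snd (e i) (e j))).some).trans
      (PushLinLib.euler_push κ (pullback.snd (e i) (e j)) hst.symm _).2.symm
  constructor
  · show Curv2.deg κ (E i) _ 1 = Curv2.deg κ (E j) _ 1
    rw [CurvLib.deg_congr a, CurvLib.deg_congr b, di, dj, qi, qj]
  · show Curv2.deg κ (E i) _ 1 ≤ 0
    rw [CurvLib.deg_congr a]
    exact hle

include hU hρ hEd hcart hs hdist hout in
/-- **Negative definiteness.** The matrix of the degrees of the ideals of the curves is positive definite. -/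
theorem contracted_pos (x : Fin r → ℤ) (hx : x ≠ 0) :
    0 < ∑ i, ∑ j, x i * x j * dg (s i) (pb (e i) (ClSub.idealMod (e j).ker)) := by
  classical
  haveI : IsClosedImmersion (Spec.map (CommRingCat.ofHom ρ)) := IsClosedImmersion.spec_of_surjective _ hρ
  let S := Spec (CommRingCat.of R)
  let η := genericPoint W
  have hηU : π η ∈ U := ModifLib.genericPoint_mem π hU
  let ξ : Fin r → W := fun i => e i (genericPoint (E i))
  -- for each curve a further curve meeting it
  have hmeet : ∀ i, ∃ (z : W) (c : E i), z ⤳ e i c ∧ z ≠ η ∧ ∀ j, z ∉ Set.range (e j).base := fun i => by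
    letI : (E i).Over (Spec (CommRingCat.of κ)) := ⟨s i⟩
    haveI : IsProper (E i ↘ Spec (CommRingCat.of κ)) := isProper_s R π κ ρ hρ E e s hs i
    haveI := CurvLib.isNoetherian κ (X := E i)
    obtain ⟨c, -, hc⟩ := IsClosed.exists_closed_singleton (isClosed_univ (X := ↥(E i))) Set.univ_nonempty
    refine exists_point_off E e hEd η (genericPoint_spec W) (fun j h => hout j (genericPoint (E j)) (h ▸ hηU)) i c hc
  -- a function vanishing on the divisor and on the curves
  let T : Set S := π.base '' ((⋃ i, closure {(hmeet i).choose}) ∪ ⋃ i, Set.range (e i).base)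
  have hTc : IsClosed T := π.isClosedMap _ ((isClosed_iUnion_of_finite fun i => isClosed_closure).union
    (isClosed_iUnion_of_finite fun i => (e i).isClosedEmbedding.isClosed_range))
  have hηT : π η ∉ T := by
    rintro ⟨z, hz, hzη⟩
    rcases hz with hz | hz
    · have hzU : z ∈ π ⁻¹ᵁ U := show π z ∈ U from hzη ▸ hηU
      have hzη' : z = η := congrArg Subtype.val ((π ∣_ U).homeomorph.injective (a₁ := ⟨z, hzU⟩) (a₂ := ⟨η, hηU⟩)
        (Subtype.ext (by simpa using hzη)))
      obtain ⟨i, hi⟩ := Set.mem_iUnion.1 hz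
      exact (hmeet i).choose_spec.choose_spec.2.1
        ((specializes_iff_mem_closure.2 (by rw [hzη'] at hi; exact hi)).antisymm ((genericPoint_spec W).specializes (Set.mem_univ _))).eq
    · obtain ⟨i, c, rfl⟩ := Set.mem_iUnion.1 hz
      exact hout i c (show π (e i c) ∈ U from hzη ▸ hηU)
  obtain ⟨-, ⟨f, rfl⟩, hfη, hfsub⟩ := PrimeSpectrum.isTopologicalBasis_basic_opens.exists_subset_of_mem_open
    (show π η ∈ Tᶜ from hηT) hTc.isOpen_compl
  let P₀ := Curv2.idealSheaf R (Ideal.span {f})
  have hP₀s : ∀ p : S, p ∈ P₀.support ↔ f ∈ p.asIdeal := fun p => by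
    rw [← SetLike.mem_coe, PtBlowLib.coe_support_idealSheaf, PrimeSpectrum.mem_zeroLocus]
    simp [Ideal.span_singleton_le_iff_mem, Set.singleton_subset_iff]
  have hf0 : f ≠ 0 := fun h => hfη (h ▸ Submodule.zero_mem _)
  have hP₀c : BlowUp.IsEffCartierIdeal P₀ := fun p => by
    refine ⟨⟨⊤, isAffineOpen_top _⟩, trivial, (Scheme.ΓSpecIso (CommRingCat.of R)).inv f,
      mem_nonZeroDivisors_of_ne_zero fun h => hf0 ?_, ?_⟩
    · exact (ConcreteCategory.bijective_of_isIso (Scheme.ΓSpecIso (CommRingCat.of R)).inv).1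
        (h.trans (map_zero _).symm)
    · erw [PtBlowLib.idealSheaf_top, Ideal.map_span, Set.image_singleton]
  let P := P₀.comap π
  have hPs : ∀ z : W, z ∈ P.support ↔ f ∈ (π z).asIdeal := fun z => by
    rw [Scheme.IdealSheafData.support_comap]
    exact hP₀s (π z)
  have hPc : BlowUp.IsEffCartierIdeal P := isEffCartier_comap hP₀c π fun h => hfη ((hP₀s _).1 h)
  have hTP : ∀ z : W, π z ∈ T → z ∈ P.support := fun z hz => (hPs z).2 (by
    by_contra h
    exact hfsub h hz)
  -- its decomposition
  have hne : ∀ i, (e i).ker ≠ ⊤ := fun i h => by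
    have h1 : e i (genericPoint (E i)) ∈ ((e i).ker.support : Set W) := by
      rw [Scheme.Hom.support_ker]
      exact subset_closure ⟨_, rfl⟩
    rw [h, Scheme.IdealSheafData.support_top] at h1
    exact h1
  obtain ⟨m, Q, hQ, hQn, hPQ⟩ := exists_decomp (fun i => (e i).ker) hcart hne P hPc Finset.univ
  have hQgen : ∀ i, e i (genericPoint (E i)) ∉ Q.support := fun i h => by
    refine hQn i (Finset.mem_univ i) ?_
    haveI : IsReduced (e i).ker.subscheme := isReduced_of_isOpenImmersion (inv (e i).toImage)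
    rw [AlgSpRegLib.eq_vanishingIdeal_support (e i).ker]
    refine Scheme.IdealSheafData.le_support_iff_le_vanishingIdeal.1 ?_
    rw [← SetLike.coe_subset_coe, Scheme.Hom.support_ker]
    refine closure_minimal ?_ Q.support.isClosed
    rw [← Set.image_univ, ← (genericPoint_spec (E i)).def]
    exact (image_closure_subset_closure_image (e i).continuous).trans
      (closure_minimal (by rw [Set.image_singleton]; exact Set.singleton_subset_iff.2 h) Q.support.isClosed)
  have hQmeet : ∀ i, ∃ c : E i, e i c ∈ Q.support := fun i => by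
    refine ⟨(hmeet i).choose_spec.choose, ?_⟩
    obtain ⟨hzc, -, hznot⟩ := (hmeet i).choose_spec.choose_spec
    set z := (hmeet i).choose
    refine Q.support.isClosed.stableUnderSpecialization hzc ?_
    have hzP : z ∈ P.support := hTP z ⟨z, Or.inl (Set.mem_iUnion.2 ⟨i, subset_closure rfl⟩), rfl⟩
    rw [hPQ, SDivLib.mem_support_iff_stalk] at hzP
    rw [SetLike.mem_coe, SDivLib.mem_support_iff_stalk]
    intro hQz
    refine hzP ?_
    rw [SDivLib.stalkIdeal_mul, hQz, Ideal.mul_top]
    have : ∀ t : Finset (Fin r), IntMult.stalkIdeal (∏ j ∈ t, (e j).ker ^ m j) z = ⊤ := fun t => by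
      induction t using Finset.induction with
      | empty => rw [Finset.prod_empty, SDivLib.stalkIdeal_one]
      | insert a t ha ih =>
        rw [Finset.prod_insert ha, SDivLib.stalkIdeal_mul, ih, Ideal.mul_top, SDivLib.stalkIdeal_pow,
          StrictCurveLib.stalkIdeal_eq_top' _ (fun hh => hznot a (by
            rw [← SetLike.mem_coe, Scheme.Hom.support_ker, (e a).isClosedEmbedding.isClosed_range.closure_eq] at hh
            exact hh)), Ideal.top_pow]
    exact this _
  -- degrees
  let M : Fin r → Fin r → ℤ := fun i j => dg (s i) (pb (e i) (ClSub.idealMod (e j).ker))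
  have hrow : ∀ i, 0 < ∑ j, M i j * (m j : ℤ) := fun i => by
    letI : (E i).Over (Spec (CommRingCat.of κ)) := ⟨s i⟩
    haveI : IsProper (E i ↘ Spec (CommRingCat.of κ)) := isProper_s R π κ ρ hρ E e s hs i
    haveI := CurvLib.isNoetherian κ (X := E i)
    have hdg : ∀ {J J' : W.IdealSheafData}, BlowUp.IsEffCartierIdeal J → BlowUp.IsEffCartierIdeal J' →
        dg (s i) (pb (e i) (ClSub.idealMod (J * J'))) =
          dg (s i) (pb (e i) (ClSub.idealMod J)) + dg (s i) (pb (e i) (ClSub.idealMod J')) := fun {J J'} hJ hJ' => by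
      obtain ⟨a⟩ := SurfNumLib.nonempty_idealMod_mul hJ hJ'
      obtain ⟨b⟩ := BlowPtLib.nonempty_pb_tensor (e i) (ClSub.idealMod J) (ClSub.idealMod J')
      show Curv2.deg κ (E i) _ 1 = Curv2.deg κ (E i) _ 1 + Curv2.deg κ (E i) _ 1
      rw [← GenusZeroLib.deg_tensor κ (hEd i) (AmpleDevLib.isInvertible_pb _ (IntMultLib.isInvertible_idealMod _ hJ))
        (AmpleDevLib.isInvertible_pb _ (IntMultLib.isInvertible_idealMod _ hJ')),
        ← CurvLib.deg_congr b, CurvLib.deg_congr ((Scheme.Modules.pullback (e i)).mapIso a)]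
    have hdeg1 : dg (s i) (pb (e i) (ClSub.idealMod (1 : W.IdealSheafData))) = 0 := by
      obtain ⟨a⟩ := BlowPtLib.nonempty_idealMod_top W
      show Curv2.deg κ (E i) _ 1 = 0
      rw [Scheme.IdealSheafData.one_eq_top, CurvLib.deg_congr ((Scheme.Modules.pullback (e i)).mapIso a ≪≫ KFlatLib.pullUnitIso (e i)),
        Curv2.deg, Nat.cast_one, one_mul, sub_self]
    have hpows : ∀ (j : Fin r) (q : ℕ), dg (s i) (pb (e i) (ClSub.idealMod ((e j).ker ^ q))) = q * M i j := fun j q => by
      induction q with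
      | zero => rw [pow_zero, hdeg1, Nat.cast_zero, zero_mul]
      | succ q ih =>
        rw [pow_succ, hdg (PtBlowLib.isEffCartier_pow (hcart j) q) (hcart j), ih]
        push_cast; ring
    have hprod : ∀ t : Finset (Fin r), BlowUp.IsEffCartierIdeal (∏ j ∈ t, (e j).ker ^ m j) ∧
        dg (s i) (pb (e i) (ClSub.idealMod (∏ j ∈ t, (e j).ker ^ m j))) = ∑ j ∈ t, M i j * (m j : ℤ) := fun t => by
      induction t using Finset.induction with
      | empty => exact ⟨by rw [Finset.prod_empty]; exact SurfAmpleLib.isEffCartier_one, by rw [Finset.prod_empty, hdeg1, Finset.sum_empty]⟩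
      | insert a t ha ih =>
        rw [Finset.prod_insert ha, Finset.sum_insert ha]
        refine ⟨AlgSpRegLib.isEffCartier_mul (PtBlowLib.isEffCartier_pow (hcart a) _) ih.1, ?_⟩
        rw [hdg (PtBlowLib.isEffCartier_pow (hcart a) _) ih.1, ih.2, hpows]; ring
    have hP0 : dg (s i) (pb (e i) (ClSub.idealMod P)) = 0 := by
      obtain ⟨a⟩ := SymSqLib.nonempty_pb_ideal (f := π) (K := P₀) (IntMultLib.isInvertible_idealMod _ hP₀c)
        (IntMultLib.isInvertible_idealMod _ hPc)
      haveI : Subsingleton ↥(Spec (CommRingCat.of κ)) := inferInstanceAs (Subsingleton (PrimeSpectrum κ))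
      haveI : Nonempty ↥(Spec (CommRingCat.of κ)) := inferInstanceAs (Nonempty (PrimeSpectrum κ))
      obtain ⟨b⟩ := nonempty_unit_of_subsingleton (AmpleDevLib.isInvertible_pb (Spec.map (CommRingCat.ofHom ρ))
        (IntMultLib.isInvertible_idealMod _ hP₀c))
      show Curv2.deg κ (E i) _ 1 = 0
      rw [CurvLib.deg_congr ((Scheme.Modules.pullback (e i)).mapIso a.symm ≪≫
          (Scheme.Modules.pullbackComp (e i) π).app _ ≪≫ (Scheme.Modules.pullbackCongr (hs i)).app _ ≪≫
          ((Scheme.Modules.pullbackComp (s i) (Spec.map (CommRingCat.ofHom ρ))).app _).symm ≪≫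
          (Scheme.Modules.pullback (s i)).mapIso b ≪≫ KFlatLib.pullUnitIso (s i)),
        Curv2.deg, Nat.cast_one, one_mul, sub_self]
    have hQd : dg (s i) (pb (e i) (ClSub.idealMod Q)) < 0 := by
      have hc := isEffCartier_comap hQ (e i) (hQgen i)
      obtain ⟨a⟩ := SymSqLib.nonempty_pb_ideal (f := e i) (K := Q) (IntMultLib.isInvertible_idealMod _ hQ)
        (IntMultLib.isInvertible_idealMod _ hc)
      show Curv2.deg κ (E i) _ 1 < 0
      rw [CurvLib.deg_congr a]
      obtain ⟨c, hc'⟩ := hQmeet i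
      exact (deg_idealMod (κ := κ) (hEd i) hc).2.2 ⟨c, by
        rw [SetLike.mem_coe, Scheme.IdealSheafData.support_comap]; exact hc'⟩
    rw [hPQ, hdg (hprod _).1 hQ, (hprod _).2] at hP0
    linarith
  have hfin := quad_neg (fun i j => -M i j)
    (fun i j => by
      rcases eq_or_ne i j with rfl | hij
      · rfl
      · simp only [M, (pair_facts R π κ ρ hρ E e hEd hcart s hs hdist hij).1])
    (fun i j hij => neg_nonneg.2 (pair_facts R π κ ρ hρ E e hEd hcart s hs hdist hij).2)
    m (fun i => by simpa only [neg_mul, Finset.sum_neg_distrib, neg_lt_zero] using hrow i) x hx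
  simpa only [mul_neg, Finset.sum_neg_distrib, neg_lt_zero] using hfin

end NegLib

end
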